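import Cfsg.Agent.Lib.Helper11.Suz1782.D0
import Cfsg.Agent.Lib.Helper11.Words

set_option autoImplicit false
set_option maxRecDepth 100000

namespace Cfsg.Agent.Lib.Helper11.Suz1782

noncomputable def fc1_0 (i : ℕ) : ℕ := (Bool.rec (Bool.rec (Bool.rec (fc0_0 i) (Bool.rec (fc0_1 i) (fc0_2 i) (Nat.ble 32 i)) (Nat.ble 16 i)) (Bool.rec (fc0_3 i) (Bool.rec (fc0_4 i) (fc0_5 i) (Nat.ble 80 i)) (Nat.ble 64 i)) (Nat.ble 48 i)) (Bool.rec (Bool.rec (fc0_6 i) (Bool.rec (fc0_7 i) (fc0_8 i) (Nat.ble 128 i)) (Nat.ble 112 i)) (Bool.rec (fc0_9 i) (Bool.rec (fc0_10 i) (fc0_11 i) (Nat.ble 176 i)) (Nat.ble 160 i)) (Nat.ble 144 i)) (Nat.ble 96 i))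
noncomputable def fc (i : ℕ) : ℕ := fc1_0 i
noncomputable def sc1_0 (i : ℕ) : ℕ := (Bool.rec (Bool.rec (Bool.rec (sc0_0 i) (Bool.rec (sc0_1 i) (sc0_2 i) (Nat.ble 32 i)) (Nat.ble 16 i)) (Bool.rec (sc0_3 i) (Bool.rec (sc0_4 i) (sc0_5 i) (Nat.ble 80 i)) (Nat.ble 64 i)) (Nat.ble 48 i)) (Bool.rec (Bool.rec (sc0_6 i) (Bool.rec (sc0_7 i) (sc0_8 i) (Nat.ble 128 i)) (Nat.ble 112 i)) (Bool.rec (sc0_9 i) (Bool.rec (sc0_10 i) (sc0_11 i) (Nat.ble 176 i)) (Nat.ble 160 i)) (Nat.ble 144 i)) (Nat.ble 96 i))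
noncomputable def sc (i : ℕ) : ℕ := sc1_0 i
noncomputable def nc (i : ℕ) : ℕ := nc0_0 i
noncomputable def cc1_0 (i : ℕ) : ℕ := (Bool.rec (Bool.rec (cc0_0 i) (cc0_1 i) (Nat.ble 16 i)) (Bool.rec (cc0_2 i) (cc0_3 i) (Nat.ble 48 i)) (Nat.ble 32 i))
noncomputable def cc (i : ℕ) : ℕ := cc1_0 i

noncomputable def INV : ℕ := 247132686368
def isH (l : ℕ) : Bool := decide (l ∈ [1, 2, 3, 4, 5, 6])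
def gens : List ℕ := [1, 2, 3, 4, 5, 6, 7]
def rt : RT := (.node 10 (.node 4 (.node 2 (.node 1 (.leaf 2 0 [2, 2]) (.leaf 7 0 [7, 7])) (.node 3 (.leaf 6 0 [6, 6]) (.leaf 3 0 [3, 3]))) (.node 7 (.node 6 (.node 5 (.leaf 4 0 [4, 4]) (.leaf 1 0 [1, 1])) (.leaf 5 0 [5, 5])) (.node 9 (.node 8 (.leaf 13 0 [1, 6, 1, 6]) (.leaf 19 1 [5, 2, 5, 2])) (.leaf 18 1 [4, 2, 4, 2])))) (.node 22 (.node 16 (.node 13 (.node 12 (.node 11 (.leaf 28 0 [3, 7, 3, 7]) (.leaf 27 0 [3, 6, 3, 6])) (.leaf 58 3 [7, 6, 1, 7, 6])) (.node 15 (.node 14 (.leaf 58 2 [6, 7, 6, 1, 7]) (.leaf 35 0 [4, 7, 4, 7])) (.leaf 34 0 [4, 6, 4, 6]))) (.node 19 (.node 18 (.node 17 (.leaf 14 0 [1, 7, 1, 7]) (.leaf 42 0 [5, 7, 5, 7])) (.leaf 41 0 [5,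 6, 5, 6])) (.node 21 (.node 20 (.leaf 10 0 [1, 3, 1, 3]) (.leaf 0 0 [])) (.leaf 20 1 [6, 2, 6, 2, 6, 2])))) (.node 32 (.node 27 (.node 25 (.node 24 (.node 23 (.leaf 17 0 [2, 3, 2, 3, 2, 3]) (.leaf 21 1 [7, 2, 7, 2, 7, 2])) (.leaf 26 1 [5, 3, 5, 3])) (.node 26 (.leaf 12 1 [5, 1, 5, 1]) (.leaf 11 1 [4, 1, 4, 1]))) (.node 30 (.node 29 (.node 28 (.leaf 27 1 [6, 3, 6, 3]) (.leaf 21 0 [2, 7, 2, 7, 2, 7])) (.leaf 20 0 [2, 6, 2, 6, 2, 6])) (.node 31 (.leaf 18 0 [2, 4, 2, 4]) (.leaf 17 1 [3, 2, 3, 2, 3, 2])))) (.node 40 (.node 36 (.node 34 (.node 33 (.leaf 11 0 [1, 4, 1, 4]) (.leaf 28 1 [7, 3, 7, 3])) (.node 35 (.leaf 13 1 [6, 1, 6, 1]) (.leaf 14 1 [7, 1, 7, 1]))) (.node 38 (.node 37 (.leaf 10 1 [3, 1,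 3, 1]) (.leaf 9 0 [1, 2, 1, 2, 1, 2, 1, 2, 1, 2])) (.node 39 (.leaf 19 0 [2, 5, 2, 5]) (.leaf 34 1 [6, 4, 6, 4])))) (.node 47 (.node 44 (.node 42 (.node 41 (.leaf 12 0 [1, 5, 1, 5]) (.leaf 35 1 [7, 4, 7, 4])) (.node 43 (.leaf 9 1 [2, 1, 2, 1, 2, 1, 2, 1, 2, 1]) (.leaf 26 0 [3, 5, 3, 5]))) (.node 46 (.node 45 (.leaf 33 0 [4, 5, 4, 5, 4, 5]) (.leaf 57 2 [3, 4, 3, 4, 3, 4, 3, 1, 4])) (.leaf 57 3 [4, 3, 4, 3, 4, 3, 1, 4, 3]))) (.node 52 (.node 50 (.node 49 (.node 48 (.leaf 42 1 [7, 5, 7, 5]) (.leaf 41 1 [6, 5, 6, 5])) (.leaf 60 0 [2, 6, 7, 2, 6, 7, 2, 6, 7, 2, 6, 7, 2, 6, 7])) (.node 51 (.leaf 33 1 [5, 4, 5, 4, 5, 4]) (.leaf 60 2 [7, 2, 6, 7, 2, 6, 7, 2, 6, 7, 2, 6, 7, 2, 6]))) (.node 57 (.node 55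 (.node 54 (.node 53 (.leaf 58 1 [7, 6, 7, 6, 1]) (.leaf 59 3 [6, 1, 2, 3, 6, 1, 2, 3, 6, 1, 2, 3, 6, 1, 2, 3, 6, 1, 2, 3])) (.leaf 60 1 [6, 7, 2, 6, 7, 2, 6, 7, 2, 6, 7, 2, 6, 7, 2])) (.node 56 (.leaf 59 0 [1, 2, 3, 6, 1, 2, 3, 6, 1, 2, 3, 6, 1, 2, 3, 6, 1, 2, 3, 6]) (.leaf 58 4 [6, 1, 7, 6, 7]))) (.node 61 (.node 59 (.node 58 (.leaf 59 2 [3, 6, 1, 2, 3, 6, 1, 2, 3, 6, 1, 2, 3, 6, 1, 2, 3, 6, 1, 2]) (.leaf 59 1 [2, 3, 6, 1, 2, 3, 6, 1, 2, 3, 6, 1, 2, 3, 6, 1, 2, 3, 6, 1])) (.node 60 (.leaf 58 0 [1, 7, 6, 7, 6]) (.leaf 61 25 [5, 2, 3, 4, 3, 4, 2, 3, 4, 3, 4, 2, 3, 4, 3, 4, 2, 3, 4, 3, 4, 2, 3, 4, 3, 4, 5, 2, 3, 4, 3, 4, 2, 3, 4, 3, 4, 2, 3, 4, 3, 4, 2, 3, 4, 3, 4, 2, 3, 4, 3, 4, 5, 2, 3, 4, 3, 4,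 2, 3, 4, 3, 4, 2, 3, 4, 3, 4, 2, 3, 4, 3, 4, 2, 3, 4, 3, 4]))) (.node 67 (.node 64 (.node 63 (.node 62 (.leaf 57 0 [1, 4, 3, 4, 3, 4, 3, 4, 3]) (.leaf 57 7 [4, 3, 1, 4, 3, 4, 3, 4, 3])) (.leaf 57 6 [3, 4, 3, 1, 4, 3, 4, 3, 4])) (.node 66 (.node 65 (.leaf 49 0 [6, 7, 6, 7, 6, 7, 6, 7]) (.leaf 57 8 [3, 1, 4, 3, 4, 3, 4, 3, 4])) (.leaf 61 3 [3, 4, 2, 3, 4, 3, 4, 2, 3, 4, 3, 4, 2, 3, 4, 3, 4, 2, 3, 4, 3, 4, 5, 2, 3, 4, 3, 4, 2, 3, 4, 3, 4, 2, 3, 4, 3, 4, 2, 3, 4, 3, 4, 2, 3, 4, 3, 4, 5, 2, 3, 4, 3, 4, 2, 3, 4, 3, 4, 2, 3, 4, 3, 4, 2, 3, 4, 3, 4, 2, 3, 4, 3, 4, 5, 2, 3, 4]))) (.node 72 (.node 70 (.node 69 (.node 68 (.leaf 61 4 [4, 2, 3, 4, 3, 4, 2, 3, 4, 3, 4, 2, 3, 4, 3, 4, 2, 3, 4, 3, 4, 5, 2, 3,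 4, 3, 4, 2, 3, 4, 3, 4, 2, 3, 4, 3, 4, 2, 3, 4, 3, 4, 2, 3, 4, 3, 4, 5, 2, 3, 4, 3, 4, 2, 3, 4, 3, 4, 2, 3, 4, 3, 4, 2, 3, 4, 3, 4, 2, 3, 4, 3, 4, 5, 2, 3, 4, 3]) (.leaf 57 4 [3, 4, 3, 4, 3, 1, 4, 3, 4])) (.leaf 25 0 [3, 4, 3, 4, 3, 4, 3, 4, 3, 4, 3, 4, 3, 4, 3, 4])) (.node 71 (.leaf 61 13 [3, 4, 2, 3, 4, 3, 4, 2, 3, 4, 3, 4, 5, 2, 3, 4, 3, 4, 2, 3, 4, 3, 4, 2, 3, 4, 3, 4, 2, 3, 4, 3, 4, 2, 3, 4, 3, 4, 5, 2, 3, 4, 3, 4, 2, 3, 4, 3, 4, 2, 3, 4, 3, 4, 2, 3, 4, 3, 4, 2, 3, 4, 3, 4, 5, 2, 3, 4, 3, 4, 2, 3, 4, 3, 4, 2, 3, 4]) (.leaf 57 1 [4, 3, 4, 3, 4, 3, 4, 3, 1]))) (.node 75 (.node 74 (.node 73 (.leaf 61 12 [4, 3, 4, 2, 3, 4, 3, 4, 2, 3, 4, 3, 4, 5, 2, 3, 4, 3, 4, 2, 3, 4, 3, 4, 2, 3, 4, 3, 4, 2,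 3, 4, 3, 4, 2, 3, 4, 3, 4, 5, 2, 3, 4, 3, 4, 2, 3, 4, 3, 4, 2, 3, 4, 3, 4, 2, 3, 4, 3, 4, 2, 3, 4, 3, 4, 5, 2, 3, 4, 3, 4, 2, 3, 4, 3, 4, 2, 3]) (.leaf 61 16 [3, 4, 3, 4, 2, 3, 4, 3, 4, 5, 2, 3, 4, 3, 4, 2, 3, 4, 3, 4, 2, 3, 4, 3, 4, 2, 3, 4, 3, 4, 2, 3, 4, 3, 4, 5, 2, 3, 4, 3, 4, 2, 3, 4, 3, 4, 2, 3, 4, 3, 4, 2, 3, 4, 3, 4, 2, 3, 4, 3, 4, 5, 2, 3, 4, 3, 4, 2, 3, 4, 3, 4, 2, 3, 4, 3, 4, 2])) (.leaf 61 20 [2, 3, 4, 3, 4, 5, 2, 3, 4, 3, 4, 2, 3, 4, 3, 4, 2, 3, 4, 3, 4, 2, 3, 4, 3, 4, 2, 3, 4, 3, 4, 5, 2, 3, 4, 3, 4, 2, 3, 4, 3, 4, 2, 3, 4, 3, 4, 2, 3, 4, 3, 4, 2, 3, 4, 3, 4, 5, 2, 3, 4, 3, 4, 2, 3, 4, 3, 4, 2, 3, 4, 3, 4, 2, 3, 4, 3, 4])) (.node 76 (.leaf 61 15 [2, 3, 4, 3, 4, 2, 3, 4, 3, 4, 5, 2,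 3, 4, 3, 4, 2, 3, 4, 3, 4, 2, 3, 4, 3, 4, 2, 3, 4, 3, 4, 2, 3, 4, 3, 4, 5, 2, 3, 4, 3, 4, 2, 3, 4, 3, 4, 2, 3, 4, 3, 4, 2, 3, 4, 3, 4, 2, 3, 4, 3, 4, 5, 2, 3, 4, 3, 4, 2, 3, 4, 3, 4, 2, 3, 4, 3, 4]) (.leaf 61 17 [4, 3, 4, 2, 3, 4, 3, 4, 5, 2, 3, 4, 3, 4, 2, 3, 4, 3, 4, 2, 3, 4, 3, 4, 2, 3, 4, 3, 4, 2, 3, 4, 3, 4, 5, 2, 3, 4, 3, 4, 2, 3, 4, 3, 4, 2, 3, 4, 3, 4, 2, 3, 4, 3, 4, 2, 3, 4, 3, 4, 5, 2, 3, 4, 3, 4, 2, 3, 4, 3, 4, 2, 3, 4, 3, 4, 2, 3])))))))))))))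


end Cfsg.Agent.Lib.Helper11.Suz1782
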